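import Groth.Agent.AlgSpDec.PointsSpectral
import Groth.Agent.AlgSpDec.MonoRep
import Groth.Agent.EtFound.Crit

/-!
# Constructibility on a quasi-separated space is etale local
-/

set_option autoImplicit false
set_option backward.isDefEq.respectTransparency false
set_option backward.isDefEq.respectTransparency.types false

universe u

open CategoryTheory CategoryTheory.Limits AlgebraicGeometry AlgSp TopologicalSpace Topology

namespace Groth.Agent.EtConstr

open Groth.Agent.AlgSpLib Groth.Agent.AlgSpPts Groth.Agent.AlgSpDec Set.Notation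

variable {S : Scheme.{u}} [QuasiSeparatedSpace ↥S] {X : Sp S} (hX : IsAlgSpace X) (hqs : IsQuasiSeparatedSp X)

include hX hqs

/-- The preimage of an affine chart image under an affine chart is compact. -/
theorem isCompact_preimage_range {U V : Over S} [CompactSpace ↥U.left] [CompactSpace ↥V.left]
    {a : (yon S).obj U ⟶ X} (ha : RepWith @Etale a) (b : (yon S).obj V ⟶ X) :
    IsCompact (Points.ofPt a ⁻¹' Set.range (Points.ofPt b)) := by
  have hq : ∀ (W : Over S) [CompactSpace ↥W.left], IsQuasiCompactSp ((yon S).obj W) := fun W _ => by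
    haveI : CompactSpace (Points ((yon S).obj W)) := (Points.schemeHomeo _).compactSpace
    exact (isQuasiCompactSp_iff (IsAlgSpace.yon_obj W)).2 ‹_›
  have hm := isQuasiCompactMor_of_qc_qs (IsAlgSpace.yon_obj U) hX (hq U) hqs a
  have sq := ha.rep.isPullback' b
  have hP := hm (IsAlgSpace.yon_obj V) (hq V) b _ _ sq
  haveI : CompactSpace ↥(ha.rep.pullback b).left :=
    haveI := (isQuasiCompactSp_iff (IsAlgSpace.yon_obj _)).1 hP
    (Points.schemeHomeo (ha.rep.pullback b)).symm.compactSpace
  have : Points.ofPt a ⁻¹' Set.range (Points.ofPt b) = Set.range (ha.rep.fst' b).left := by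
    ext x
    constructor
    · rintro ⟨v, hv⟩
      obtain ⟨r, hr, -⟩ := exists_ofPt_of_eq sq hv.symm
      exact ⟨r, hr⟩
    · rintro ⟨r, rfl⟩
      refine ⟨(ha.rep.snd b).left r, ?_⟩
      rw [← ofPt_comp, ← ofPt_comp, sq.w]
  rw [this]
  exact isCompact_range (ha.rep.fst' b).left.continuous

/-- The images of affine charts. -/
theorem chart_basis :
    IsTopologicalBasis {A : Set (Points X) | ∃ (U : Over S) (a : (yon S).obj U ⟶ X),
      IsAffine U.left ∧ RepWith @Etale a ∧ A = Set.range (Points.ofPt a)} :=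
  isTopologicalBasis_of_isOpen_of_nhds (by rintro _ ⟨U, a, -, ha, rfl⟩; exact (isOpenMap_ofPt ha).isOpen_range)
    fun x O hx hO => by
    obtain ⟨U, a, u, -, ha, rfl⟩ := exists_affine_chart_at hX x
    obtain ⟨W, hW, huW, hWO⟩ := exists_isAffineOpen_mem_and_subset
      (U := ⟨Points.ofPt a ⁻¹' O, hO.preimage (Points.continuous_ofPt a)⟩) (x := u) hx
    let ι : Over.mk (W.ι ≫ U.hom) ⟶ U := Over.homMk W.ι rfl
    refine ⟨_, ⟨_, (yon S).map ι ≫ a, hW, repWith_comp ((repWith_yon_map_iff _ ι).2
      (inferInstanceAs (Etale W.ι))) ha, rfl⟩, ⟨(⟨u, huW⟩ : W.toScheme), ofPt_comp _ _ _⟩, ?_⟩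
    rintro _ ⟨w, rfl⟩
    rw [ofPt_comp]
    exact hWO (w : W.toScheme).2

theorem prespectralSpace : PrespectralSpace (Points X) :=
  .of_isTopologicalBasis (chart_basis hX hqs) (by
    rintro _ ⟨U, a, hU, -, rfl⟩
    exact isCompact_range (Points.continuous_ofPt a))

/-- Compact opens pull back to compact sets along affine charts. -/
theorem isCompact_preimage {U : Over S} [IsAffine U.left] {a : (yon S).obj U ⟶ X} (ha : RepWith @Etale a)
    {A : Set (Points X)} (hA : IsOpen A) (hAc : IsCompact A) : IsCompact (Points.ofPt a ⁻¹' A) := by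
  obtain ⟨s, hs, hsA⟩ := (chart_basis hX hqs).open_eq_sUnion hA
  obtain ⟨t, ht, htf, htA⟩ := hAc.elim_finite_subcover_image (b := s) (c := id)
    (fun i hi => (chart_basis hX hqs).isOpen (hs hi)) (by rw [hsA, Set.sUnion_eq_biUnion]; rfl)
  have : A = ⋃ i ∈ t, i := Set.Subset.antisymm htA (Set.iUnion₂_subset fun i hi => hsA ▸ Set.subset_sUnion_of_mem (ht hi))
  rw [this, Set.preimage_iUnion₂]
  refine htf.isCompact_biUnion fun i hi => ?_
  obtain ⟨V, b, hV, -, rfl⟩ := hs (ht hi)
  exact isCompact_preimage_range hX hqs ha b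

theorem quasiSeparatedSpace : QuasiSeparatedSpace (Points X) := ⟨fun A A' hA hAc hA' hA'c => by
  obtain ⟨s, hs, hsA⟩ := (chart_basis hX hqs).open_eq_sUnion hA
  obtain ⟨t, ht, htf, htA⟩ := hAc.elim_finite_subcover_image (b := s) (c := id)
    (fun i hi => (chart_basis hX hqs).isOpen (hs hi)) (by rw [hsA, Set.sUnion_eq_biUnion]; rfl)
  have : A ∩ A' = ⋃ i ∈ t, i ∩ A' := by
    ext x
    simp only [Set.mem_inter_iff, Set.mem_iUnion]
    exact ⟨fun ⟨h1, h2⟩ => by
      obtain ⟨i, hi, hxi⟩ := Set.mem_iUnion₂.1 (htA h1)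
      exact ⟨i, hi, hxi, h2⟩, fun ⟨i, hi, hxi, h2⟩ => ⟨hsA ▸ ⟨i, ht hi, hxi⟩, h2⟩⟩
  rw [this]
  refine htf.isCompact_biUnion fun i hi => ?_
  obtain ⟨U, a, hU, ha, rfl⟩ := hs (ht hi)
  rw [Set.inter_comm, ← Set.image_preimage_eq_inter_range]
  exact (isCompact_preimage hX hqs ha hA' hA'c).image (Points.continuous_ofPt a)⟩

/-- An affine chart as a map onto its image is a spectral map of spectral spaces. -/
theorem isSpectralMap_chart {U : Over S} [IsAffine U.left] {a : (yon S).obj U ⟶ X} (ha : RepWith @Etale a)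
    {O : Set (Points X)} (hO : IsOpen O) (hmem : ∀ u, Points.ofPt a u ∈ O) :
    IsSpectralMap (Set.codRestrict (Points.ofPt a) O hmem) where
  toContinuous := (Points.continuous_ofPt a).codRestrict hmem
  isCompact_preimage_of_isOpen := fun A hA hAc => by
    have h1 : IsOpen (Subtype.val '' A) := hO.isOpenMap_subtype_val _ hA
    have h2 : IsCompact (Subtype.val '' A) := hAc.image continuous_subtype_val
    convert! isCompact_preimage hX hqs ha h1 h2 using 1
    ext u
    simp only [Set.mem_preimage, Set.mem_image]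
    exact ⟨fun h => ⟨_, h, rfl⟩, fun ⟨y, hy, e⟩ => by rwa [show Set.codRestrict (Points.ofPt a) O hmem u = y from Subtype.ext e.symm]⟩

omit hX hqs in
theorem isConstructible_preimage {A B : Type*} [TopologicalSpace A] [TopologicalSpace B] [SpectralSpace A]
    [CompactSpace B] {f : A → B} (hf : IsSpectralMap f) {E : Set B} (hE : IsConstructible E) :
    IsConstructible (f ⁻¹' E) :=
  hE.preimage hf.continuous fun t ht htr => by
    have htc : IsCompact t := (Set.inter_univ t) ▸ htr isCompact_univ isOpen_univ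
    exact (hf.isCompact_preimage_of_isOpen ht htc).isRetrocompact (ht.preimage hf.continuous)

/-- A subset is locally constructible when it is so on all etale schemes over the space. -/
theorem isLocallyConstructible_iff (E : Set (Points X)) :
    (∀ (U : Over S) (a : (yon S).obj U ⟶ X), RepWith @Etale a → IsLocallyConstructible (Points.ofPt a ⁻¹' E)) ↔
      IsLocallyConstructible E := by
  have hd := isDecent_of_isQuasiSeparatedSp hX hqs
  haveI := t0Space_points hX hd
  haveI := quasiSober_points hX hd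
  haveI := prespectralSpace hX hqs
  haveI := quasiSeparatedSpace hX hqs
  have spec : ∀ {O : Set (Points X)}, IsOpen O → IsCompact O → SpectralSpace O := fun {O} hO hOc => by
    haveI := isCompact_iff_compactSpace.1 hOc
    haveI := hO.isOpenEmbedding_subtypeVal.quasiSober
    haveI := hO.isOpenEmbedding_subtypeVal.prespectralSpace
    haveI := QuasiSeparatedSpace.of_isOpenEmbedding hO.isOpenEmbedding_subtypeVal
    exact {}
  constructor
  · intro h x
    obtain ⟨U, a, u, hU, ha, rfl⟩ := exists_affine_chart_at hX x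
    let O := Set.range (Points.ofPt a)
    have hO : IsOpen O := (isOpenMap_ofPt ha).isOpen_range
    have hOc : IsCompact O := isCompact_range (Points.continuous_ofPt a)
    haveI := spec hO hOc
    refine ⟨O, hO.mem_nhds ⟨u, rfl⟩, hO, ?_⟩
    let f := Set.codRestrict (Points.ofPt a) O (fun v => ⟨v, rfl⟩)
    have hf : IsSpectralMap f := isSpectralMap_chart hX hqs ha hO _
    have hE : IsConstructible (Points.ofPt a ⁻¹' E) := (h U a ha).isConstructible
    have key : ∀ D : Set (Points X), IsConstructible (Points.ofPt a ⁻¹' D) → SpecLib.CC (O ↓∩ D) := fun D hD => by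
      haveI : SpectralSpace ↥U.left := {}
      have e : O ↓∩ D = f '' (Points.ofPt a ⁻¹' D) := by
        ext ⟨y, v, rfl⟩
        exact ⟨fun hy => ⟨v, hy, rfl⟩, fun ⟨w, hw, e⟩ => by
          have : Points.ofPt a w = Points.ofPt a v := congrArg Subtype.val e
          change Points.ofPt a v ∈ D
          rw [← this]
          exact hw⟩
      rw [e]
      exact SpecLib.CC.image hf (SpecLib.cons_clopen hD).1
    refine EtFound.isConstructible_of_cc_co (key E hE) ?_
    have := (key Eᶜ (by rw [Set.preimage_compl]; exact hE.compl)).compl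
    rwa [Set.preimage_compl, compl_compl] at this
  · intro h U a ha u
    obtain ⟨W, hW, huW, -⟩ := exists_isAffineOpen_mem_and_subset (U := (⊤ : U.left.Opens)) (x := u) trivial
    refine ⟨W, W.2.mem_nhds huW, W.2, ?_⟩
    let ι : Over.mk (W.ι ≫ U.hom) ⟶ U := Over.homMk W.ι rfl
    haveI : IsAffine (Over.mk (W.ι ≫ U.hom)).left := hW
    let b := (yon S).map ι ≫ a
    have hb : RepWith @Etale b := repWith_comp ((repWith_yon_map_iff _ ι).2 (inferInstanceAs (Etale W.ι))) ha
    let O := Set.range (Points.ofPt b)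
    have hO : IsOpen O := (isOpenMap_ofPt hb).isOpen_range
    have hOc : IsCompact O := isCompact_range (Points.continuous_ofPt b)
    haveI := spec hO hOc
    let f := Set.codRestrict (Points.ofPt b) O (fun v => ⟨v, rfl⟩)
    have hf : IsSpectralMap f := isSpectralMap_chart hX hqs hb hO _
    have hEO : IsConstructible (O ↓∩ E) :=
      (h.preimage_of_isOpenEmbedding hO.isOpenEmbedding_subtypeVal).isConstructible
    haveI : SpectralSpace ↥(Over.mk (W.ι ≫ U.hom)).left := {}
    have hc : IsConstructible (f ⁻¹' (O ↓∩ E)) := isConstructible_preimage hf hEO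
    have e : f ⁻¹' (O ↓∩ E) = ι.left ⁻¹' (Points.ofPt a ⁻¹' E) := Set.ext fun w => by
      show Points.ofPt b w ∈ E ↔ Points.ofPt a (ι.left w) ∈ E
      rw [ofPt_comp ι a w]
    rw [e] at hc
    exact hc

end Groth.Agent.EtConstr
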